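import Mathlib
import Cfsg.Agent.KFacts.FiTF.FixZ_m3
import Cfsg.Agent.H841.Transport
import Cfsg.Agent.FastGrp
import Cfsg.Agent.Prune
set_option linter.all false

section
prune_inst 0x7f00000000000000000000000000000000000000000000000000000000000000000000000000000000000000000000000000000000000000000000000000000000000000000000000000000000000000003fffffffffffffffffffffffffffbeffbdffffffff

-- part: H843/Syl
section
set_option linter.all false
open scoped Cfsg.Agent.FastGrp

/-!
# Subgroups of prime order `p` when `p ^ 2` does not divide the order of the group (helper843)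
-/

set_option autoImplicit false

namespace Cfsg.Agent.H843.Syl

variable {G : Type*} [Group G] [Finite G]

/-- A subgroup of order `p` is a Sylow subgroup. -/
theorem exists_sylow {p : ℕ} (hp : p.Prime) (h2 : ¬ p ^ 2 ∣ Nat.card G) (B : Subgroup G) (hB : Nat.card B = p) :
    ∃ P : Sylow p G, (P : Subgroup G) = B := by
  have : Fact p.Prime := ⟨hp⟩
  have h1 : IsPGroup p B := IsPGroup.of_card (n := 1) (by rw [hB, pow_one])
  obtain ⟨P, hP⟩ := h1.exists_le_sylow
  refine ⟨P, ?_⟩
  obtain ⟨k, hk⟩ := IsPGroup.iff_card.1 P.isPGroup'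
  have h3 : Nat.card P ∣ Nat.card G := Subgroup.card_subgroup_dvd_card _
  have h4 : k ≤ 1 := by
    by_contra hc
    exact h2 ((pow_dvd_pow p (by omega)).trans (hk ▸ h3))
  refine (Subgroup.eq_of_le_of_card_ge hP ?_).symm
  rw [hB, show Nat.card (P : Subgroup G) = p ^ k from hk]
  exact (Nat.pow_le_pow_right hp.pos h4).trans (by rw [pow_one])

/-- Two subgroups of order `p` are conjugate. -/
theorem exists_conj {p : ℕ} (hp : p.Prime) (h2 : ¬ p ^ 2 ∣ Nat.card G) (B C : Subgroup G) (hB : Nat.card B = p)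
    (hC : Nat.card C = p) : ∃ g : G, B.map (MulAut.conj g).toMonoidHom = C := by
  have : Fact p.Prime := ⟨hp⟩
  obtain ⟨P, rfl⟩ := exists_sylow hp h2 B hB
  obtain ⟨Q, rfl⟩ := exists_sylow hp h2 C hC
  obtain ⟨g, hg⟩ := MulAction.exists_smul_eq G P Q
  exact ⟨g, by rw [← hg]; rfl⟩

/-- **The order of the normalizer from a divisor and a bound.** -/
theorem card_normalizer {p : ℕ} (hp : p.Prime) (h2 : ¬ p ^ 2 ∣ Nat.card G) (B : Subgroup G) (hB : Nat.card B = p)
    {n a : ℕ} (hn : n ∣ Nat.card (Subgroup.normalizer (B : Set G)))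
    (hlt : Nat.card (Subgroup.normalizer (B : Set G)) < (p + 1) * n) (ha : Nat.card G = n * a) (h1 : a % p = 1) :
    Nat.card (Subgroup.normalizer (B : Set G)) = n := by
  have : Fact p.Prime := ⟨hp⟩
  obtain ⟨P, hP⟩ := exists_sylow hp h2 B hB
  have h3 := card_sylow_modEq_one p G
  rw [P.card_eq_index_normalizer] at h3
  have h3' : (Subgroup.normalizer (B : Set G)).index ≡ 1 [MOD p] := by
    have e : Subgroup.normalizer (P : Set G) = Subgroup.normalizer (B : Set G) := by
      rw [← hP]; rfl
    rw [← e]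
    exact h3
  obtain ⟨m, hm⟩ := hn
  have h4 := Subgroup.card_mul_index (Subgroup.normalizer (B : Set G))
  rw [hm, ha, mul_assoc] at h4
  have hn0 : 0 < n := by
    rcases Nat.eq_zero_or_pos n with h | h
    · rw [h, zero_mul] at hm
      exact absurd hm Nat.card_pos.ne'
    · exact h
  have h5 : m * (Subgroup.normalizer (B : Set G)).index = a := Nat.eq_of_mul_eq_mul_left hn0 h4
  have h6 : m ≡ 1 [MOD p] := by
    have h7 : m * (Subgroup.normalizer (B : Set G)).index ≡ m * 1 [MOD p] := h3'.mul_left m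
    rw [h5, mul_one] at h7
    refine h7.symm.trans ?_
    show a % p = 1 % p
    rw [h1, Nat.mod_eq_of_lt hp.one_lt]
  have h8 : m < p + 1 := by
    rw [hm, mul_comm] at hlt
    exact Nat.lt_of_mul_lt_mul_right hlt
  have h9 : m % p = 1 := by
    have h10 : m % p = 1 % p := h6
    rwa [Nat.mod_eq_of_lt hp.one_lt] at h10
  have h11 : m = 1 := by
    rcases Nat.lt_or_ge m p with h | h
    · rwa [Nat.mod_eq_of_lt h] at h9
    · have h12 : m = p := by omega
      rw [h12, Nat.mod_self] at h9
      omega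
  rw [hm, h11, mul_one]

end Cfsg.Agent.H843.Syl
end

-- part: H843/Cyc
section
set_option linter.all false
open scoped Cfsg.Agent.FastGrp

/-!
# Normalizers and centralizers of cyclic groups of prime order (helper843)
-/

set_option autoImplicit false

namespace Cfsg.Agent.H843.Cyc

variable {G : Type*} [Group G]

theorem conj_mem_zpowers {x a : G} {k : ℕ} (h : a * x * a⁻¹ = x ^ k) {y : G} (hy : y ∈ Subgroup.zpowers x) :
    a * y * a⁻¹ ∈ Subgroup.zpowers x := by
  obtain ⟨n, rfl⟩ := hy
  show a * x ^ n * a⁻¹ ∈ _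
  rw [← conj_zpow, h]
  exact Subgroup.zpow_mem _ (Subgroup.pow_mem _ (Subgroup.mem_zpowers x) _) _

/-- in a finite group -/
theorem mem_normalizer [Finite G] {x a : G} {k : ℕ} (h : a * x * a⁻¹ = x ^ k) :
    a ∈ Subgroup.normalizer (Subgroup.zpowers x : Set G) := by
  have h1 : (Subgroup.zpowers x).map (MulAut.conj a).toMonoidHom = Subgroup.zpowers x := by
    apply Subgroup.eq_of_le_of_card_ge
    · rintro _ ⟨y, hy, rfl⟩
      exact conj_mem_zpowers h hy
    · rw [Subgroup.card_map_of_injective (MulAut.conj a).injective]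
  rw [Subgroup.mem_normalizer_iff]
  intro y
  constructor
  · exact fun hy => conj_mem_zpowers h hy
  · intro hy
    rw [← h1] at hy
    obtain ⟨z, hz, hzy⟩ := hy
    have h2 : a * z * a⁻¹ = a * y * a⁻¹ := hzy
    have h3 : z = y := by
      have := mul_right_cancel h2
      exact mul_left_cancel this
    rwa [← h3]

/-- an element of the normalizer acts as a power -/
theorem exists_pow [Finite G] {p : ℕ} {x h : G} (hx : orderOf x = p) (hp : p.Prime)
    (hh : h ∈ Subgroup.normalizer (Subgroup.zpowers x : Set G)) : ∃ k, k % p ≠ 0 ∧ h * x * h⁻¹ = x ^ k := by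
  have h1 := (Subgroup.mem_normalizer_iff.1 hh x).1 (Subgroup.mem_zpowers x)
  obtain ⟨k, hk⟩ := (Submonoid.mem_powers_iff _ _).1 ((mem_powers_iff_mem_zpowers).2 h1)
  refine ⟨k, ?_, hk.symm⟩
  intro h0
  have h2 : x ^ k = 1 := by
    rw [← Nat.div_add_mod k p, h0, add_zero, pow_mul, ← hx, pow_orderOf_eq_one, one_pow]
  rw [h2] at hk
  have h3 : x = 1 := by
    calc x = h⁻¹ * (h * x * h⁻¹) * h := by group
      _ = 1 := by rw [← hk]; group
  rw [h3, orderOf_one] at hx
  exact hp.one_lt.ne hx

theorem conj_pow_pow {x g : G} {k : ℕ} (hg : g * x * g⁻¹ = x ^ k) (j : ℕ) : g ^ j * x * (g ^ j)⁻¹ = x ^ (k ^ j) := by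
  induction j with
  | zero => simp
  | succ j ih =>
    calc g ^ (j + 1) * x * (g ^ (j + 1))⁻¹ = g * (g ^ j * x * (g ^ j)⁻¹) * g⁻¹ := by
          rw [pow_succ' g j]; group
      _ = (g * x * g⁻¹) ^ (k ^ j) := by rw [ih, conj_pow]
      _ = x ^ (k ^ (j + 1)) := by rw [hg, ← pow_mul, pow_succ']

/-- **The order of the action divides the index of the centralizer.** -/
theorem dvd_card [Finite G] {p e k : ℕ} {x g : G} (hx : orderOf x = p) (hg : g * x * g⁻¹ = x ^ k)
    (he : orderOf (k : ZMod p) = e) :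
    e * Nat.card (Subgroup.centralizer (Subgroup.zpowers x : Set G)) ∣
      Nat.card (Subgroup.normalizer (Subgroup.zpowers x : Set G)) := by
  let g' : Subgroup.normalizer (Subgroup.zpowers x : Set G) := ⟨g, mem_normalizer hg⟩
  let φ := (Subgroup.zpowers x).normalizerMonoidHom
  have h1 : orderOf (φ g') = e := by
    rw [← he]
    rw [orderOf_eq_orderOf_iff]
    intro n
    rw [← map_pow]
    have h2 : φ (g' ^ n) = 1 ↔ g ^ n * x * (g ^ n)⁻¹ = x := by
      constructor
      · intro h
        have h3 := congrArg (fun f : MulAut (Subgroup.zpowers x) =>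
          ((f ⟨x, Subgroup.mem_zpowers x⟩ : Subgroup.zpowers x) : G)) h
        exact h3
      · intro h
        ext ⟨y, hy⟩
        obtain ⟨m, rfl⟩ := hy
        show g ^ n * x ^ m * (g ^ n)⁻¹ = x ^ m
        rw [← conj_zpow, h]
    rw [h2, conj_pow_pow hg]
    constructor
    · intro h
      have h3 : k ^ n ≡ 1 [MOD orderOf x] := by
        rw [← pow_eq_pow_iff_modEq, pow_one]
        exact h
      rw [hx] at h3
      have h4 := (ZMod.natCast_eq_natCast_iff _ _ _).2 h3
      rw [Nat.cast_pow, Nat.cast_one] at h4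
      exact h4
    · intro h
      have h3 : k ^ n ≡ 1 [MOD p] := by
        rw [← ZMod.natCast_eq_natCast_iff, Nat.cast_pow, Nat.cast_one]
        exact h
      rw [← hx] at h3
      have h4 := pow_eq_pow_iff_modEq.2 h3
      rwa [pow_one] at h4
  have h2 : e ∣ Nat.card φ.range := by
    rw [← h1]
    exact Subgroup.orderOf_dvd_natCard _ ⟨g', rfl⟩
  have h3 := Subgroup.card_mul_index φ.ker
  rw [Subgroup.index_ker] at h3
  have h4 : Nat.card φ.ker = Nat.card (Subgroup.centralizer (Subgroup.zpowers x : Set G)) := by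
    have h5 : φ.ker = (Subgroup.centralizer (Subgroup.zpowers x : Set G)).subgroupOf
        (Subgroup.normalizer (Subgroup.zpowers x : Set G)) := Subgroup.normalizerMonoidHom_ker _
    rw [h5]
    refine Nat.card_congr (Subgroup.subgroupOfEquivOfLe ?_).toEquiv
    intro y hy
    rw [Subgroup.mem_normalizer_iff]
    intro z
    have hy' := Subgroup.mem_centralizer_iff.1 hy
    constructor
    · intro hz
      rw [← hy' z hz, mul_inv_cancel_right]
      exact hz
    · intro hz
      have h6 := hy' _ hz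
      have h7 : y * z * y⁻¹ = z := by
        have h8 : y * z = y * (y * z * y⁻¹) := by rw [← h6]; group
        exact (mul_left_cancel h8).symm
      rwa [h7] at hz
  rw [← h3, h4, mul_comm]
  exact Nat.mul_dvd_mul_left _ h2

/-- the centralizer of `⟨x⟩` is the centralizer of `x` -/
theorem centralizer_zpowers (x : G) : Subgroup.centralizer (Subgroup.zpowers x : Set G) =
    Subgroup.centralizer {x} := by
  rw [Subgroup.zpowers_eq_closure, Subgroup.centralizer_closure]

theorem mem_centralizer_zpowers {x y : G} : y ∈ Subgroup.centralizer (Subgroup.zpowers x : Set G) ↔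
    y * x = x * y := by
  rw [centralizer_zpowers, Subgroup.mem_centralizer_singleton_iff]

end Cfsg.Agent.H843.Cyc
end

-- part: H843/Fi24N
section
set_option linter.all false
open scoped Cfsg.Agent.FastGrp

/-!
# Normalizers of subgroups of prime order in `Fi24` and transport (helper843)
-/

set_option autoImplicit false
set_option linter.constructorNameAsVariable false

namespace Cfsg.Agent.H843.Fi24N

open Cfsg Cfsg.Agent.Lib.PermNet Cfsg.Agent.Lib.PermNetPt Cfsg.Agent.Fischer.Fi24RepDef Cfsg.Agent.Fischer.Fi24Rep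
open Cfsg.Agent.Fischer.Fi24RepOrb (UG)
open Cfsg.Agent.Fischer.Fi24Spider (word_append word_cons word_nil)
open Cfsg.Agent.R08.FiTwentyFour (L finite_Fi24)
open Cfsg.Agent.KFacts.FiTF.Pts Cfsg.Agent.KFacts.FiTF.FixMask Cfsg.Agent.H843.Pat
open Cfsg.Agent.KFacts.FiTF.Defs (tr)
open Cfsg.Spor (Fi24)
open Cfsg.Spor.Fi24 (Gen)

theorem card_Fi24 : Nat.card Fi24 = 2510411418381323442585600 := by
  have h := Subgroup.card_mul_index (commutator Fi24)
  rw [Cfsg.Agent.R08.FiTwentyFour.card_commutator, Cfsg.Agent.R08.FiTwentyFour.index_commutator] at h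
  rw [← h]

theorem conj_of {w xw : List Gen} {k : ℕ} (h : chkEq (w ++ xw) (rep k xw ++ w) = true) :
    word w * word xw * (word w)⁻¹ = word xw ^ k := by
  have h1 := word_eq_of h
  rw [word_append, word_append, word_rep] at h1
  rw [h1, mul_inv_cancel_right]

theorem conj_of' {w xw : List Gen} {k : ℕ} (h : chkEq (w ++ xw) (rep k xw.reverse ++ w) = true) :
    word w * word xw * (word w)⁻¹ = (word xw)⁻¹ ^ k := by
  have h1 := word_eq_of h
  rw [word_append, word_append, word_rep, word_reverse] at h1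
  rw [h1, mul_inv_cancel_right]

/-- with exponents modulo `p` -/
theorem conj_of_inv {w xw : List Gen} {k p : ℕ} (hp : word xw ^ p = 1) (hk : k ≤ p)
    (h : chkEq (w ++ xw) (rep k xw.reverse ++ w) = true) :
    word w * word xw * (word w)⁻¹ = word xw ^ (p - k) := by
  rw [conj_of' h, inv_pow]
  refine inv_eq_of_mul_eq_one_right ?_
  rw [← pow_add, Nat.add_sub_cancel' hk, hp]

theorem conj_rep {xw : List Gen} (n : ℕ) : word (rep n xw) * word xw * (word (rep n xw))⁻¹ = word xw ^ 1 := by
  rw [word_rep, ← pow_succ, pow_succ', mul_inv_cancel_right, pow_one]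

/-- the order of `x` -/
theorem orderOf_x {D : Data} (H : D.Ok) (hp : D.p.Prime) {i : ℕ} (hi : i ∈ sums 0 D.gZ) : orderOf D.x = D.p := by
  have : Fact D.p.Prime := ⟨hp⟩
  apply orderOf_eq_prime H.hp
  intro h1
  have h0 : IsPt (tr D.u D.c) D.p0 := isPt_tr H.hu
  have hZ : ∀ j ∈ sums 0 D.gZ, rho (tr D.u D.c) (rho (D.x ^ j) D.p0) ≠ rho (D.x ^ j) D.p0 := by
    refine goZ_spec D.gZ 0 ?_
    rw [pow_zero, map_one]
    exact H.hZ
  apply hZ i hi
  rw [h1, one_pow, map_one, Equiv.Perm.one_apply]
  exact (h0.comm_iff _).1 rfl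

theorem mem_normalizer {x : Fi24} {a : Fi24} {k : ℕ} (h : a * x * a⁻¹ = x ^ k) :
    a ∈ Subgroup.normalizer (Subgroup.zpowers x : Set Fi24) := by
  have : Finite Fi24 := finite_Fi24
  exact Cyc.mem_normalizer h

/-- **The order of the normalizer.** -/
theorem card_le {D : Data} (H : D.Ok) (hp : D.p.Prime) (hx : orderOf D.x = D.p)
    (hws : ∀ s ∈ D.ws, ∀ w ∈ s, ∃ k, word w * D.x * (word w)⁻¹ = D.x ^ k) :
    Nat.card (Subgroup.normalizer (Subgroup.zpowers D.x : Set Fi24)) ≤ cnt D.ws * D.good.length * 2 := by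
  have : Finite Fi24 := finite_Fi24
  refine H.card_le hp.two_le (fun h hh => Cyc.exists_pow hx hp hh) ?_
  intro s hs w hw
  obtain ⟨k, hk⟩ := hws s hs w hw
  exact mem_normalizer hk

/-- **The orders of the normalizer and of the centralizer.** -/
theorem card_main {x g : Fi24} {p k e c a : ℕ} (hx : orderOf x = p) (hp : p.Prime) (h2 : ¬ p ^ 2 ∣ Nat.card Fi24)
    (hg : g * x * g⁻¹ = x ^ k) (he : orderOf (k : ZMod p) = e)
    (hc : c ∣ Nat.card (Subgroup.centralizer (Subgroup.zpowers x : Set Fi24)))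
    (hlt : Nat.card (Subgroup.normalizer (Subgroup.zpowers x : Set Fi24)) < (p + 1) * (e * c))
    (ha : Nat.card Fi24 = e * c * a) (h1 : a % p = 1) (he0 : 0 < e) :
    Nat.card (Subgroup.normalizer (Subgroup.zpowers x : Set Fi24)) = e * c ∧
      Nat.card (Subgroup.centralizer (Subgroup.zpowers x : Set Fi24)) = c := by
  have : Finite Fi24 := finite_Fi24
  have h3 := Cyc.dvd_card hx hg he
  have h4 : e * c ∣ Nat.card (Subgroup.normalizer (Subgroup.zpowers x : Set Fi24)) :=
    (Nat.mul_dvd_mul_left e hc).trans h3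
  have h5 := Syl.card_normalizer hp h2 (Subgroup.zpowers x) (by rw [Nat.card_zpowers, hx]) h4 hlt ha h1
  rw [h5] at h3
  have h6 : Nat.card (Subgroup.centralizer (Subgroup.zpowers x : Set Fi24)) ∣ c :=
    Nat.dvd_of_mul_dvd_mul_left he0 h3
  exact ⟨h5, Nat.dvd_antisymm h6 hc⟩

/-! ### Transport -/

theorem conj_image_L (g : Fi24) : (MulAut.conj g) '' L = L := by
  apply Set.Subset.antisymm
  · rintro _ ⟨d, hd, rfl⟩
    exact Cfsg.Agent.R08.FiTwentyFour.conj hd g
  · intro d hd
    refine ⟨g⁻¹ * d * g⁻¹⁻¹, Cfsg.Agent.R08.FiTwentyFour.conj hd g⁻¹, ?_⟩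
    show g * (g⁻¹ * d * g⁻¹⁻¹) * g⁻¹ = d
    group

/-- **A subgroup of order `p` is the image of `⟨x⟩` by an isomorphism.** -/
theorem exists_iso {G : Type*} [Group G] {D : Set G} (e : Fi24 ≃* G) (he : e '' L = D) {x : Fi24} {p : ℕ}
    (hp : p.Prime) (h2 : ¬ p ^ 2 ∣ Nat.card Fi24) (hx : orderOf x = p) (B : Subgroup G) (hB : Nat.card B = p) :
    ∃ f : Fi24 ≃* G, f '' L = D ∧ (Subgroup.zpowers x).map f.toMonoidHom = B := by
  have : Finite Fi24 := finite_Fi24
  have h3 : Nat.card (B.map e.symm.toMonoidHom) = p := by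
    rw [H841.Transport.card_map, hB]
  obtain ⟨g, hg⟩ := Syl.exists_conj hp h2 (Subgroup.zpowers x) (B.map e.symm.toMonoidHom)
    (by rw [Nat.card_zpowers, hx]) h3
  refine ⟨(MulAut.conj g).trans e, ?_, ?_⟩
  · have h4 : ((MulAut.conj g).trans e : Fi24 ≃* G) '' L = e '' ((MulAut.conj g) '' L) := by
      rw [Set.image_image]
      rfl
    rw [h4, conj_image_L, he]
  · have h4 : (Subgroup.zpowers x).map ((MulAut.conj g).trans e : Fi24 ≃* G).toMonoidHom =
        ((Subgroup.zpowers x).map (MulAut.conj g).toMonoidHom).map e.toMonoidHom := by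
      rw [Subgroup.map_map]
      rfl
    rw [h4, hg, Subgroup.map_map]
    have h5 : (e.toMonoidHom.comp e.symm.toMonoidHom) = MonoidHom.id G := by
      ext y
      exact e.apply_symm_apply y
    rw [h5, Subgroup.map_id]

end Cfsg.Agent.H843.Fi24N
end

-- part: H843/One
section
set_option linter.all false
open scoped Cfsg.Agent.FastGrp

/-!
# Elements of `Fi24` commuting with one transposition (helper843)
-/

set_option autoImplicit false
set_option linter.constructorNameAsVariable false

namespace Cfsg.Agent.H843.Fi24N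

open Cfsg Cfsg.Agent.Lib.PermNet Cfsg.Agent.Lib.PermNetPt Cfsg.Agent.Fischer.Fi24RepDef Cfsg.Agent.Fischer.Fi24Rep
open Cfsg.Agent.Fischer.Fi24RepOrb (UG)
open Cfsg.Agent.Fischer.Fi24Spider (word_append word_cons word_nil)
open Cfsg.Agent.R08.FiTwentyFour (L finite_Fi24)
open Cfsg.Agent.KFacts.FiTF.Pts Cfsg.Agent.KFacts.FiTF.FixMask Cfsg.Agent.H843.Pat
open Cfsg.Spor (Fi24)
open Cfsg.Spor.Fi24 (Gen)

/-- the points of the transpositions commuting with `x` -/
theorem sieve_mem {xw : List Gen} {l : List ℕ} (h : Nat.beq (sv (nw xw false) bl UG) (msk l) = true) {d : Fi24}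
    (hd : d ∈ L) (hc : d * word xw = word xw * d) : ∃ q ∈ l, IsPt d q := by
  obtain ⟨q, hq⟩ := exists_pt hd
  refine ⟨q, ?_, hq⟩
  have h1 : rho (word xw) q = q := (hq.comm_iff _).1 hc.symm
  rw [rho_word] at h1
  rw [← testBit_msk, ← Nat.eq_of_beq_eq_true h]
  exact sv_spec (wok _ _) bl (bit hq) h1

theorem inter_one {xw : List Gen} (h : Nat.beq (sv (nw xw false) bl UG) (msk [0]) = true)
    (hl : chkEq ([.l] ++ xw) (xw ++ [.l]) = true) :
    L ∩ (Subgroup.centralizer (Subgroup.zpowers (word xw) : Set Fi24) : Set Fi24) = {gen .l} := by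
  ext d
  constructor
  · rintro ⟨hd, hc⟩
    obtain ⟨q, hq, hd'⟩ := sieve_mem h hd (Cyc.mem_centralizer_zpowers.1 hc)
    rw [List.mem_singleton] at hq
    subst hq
    exact hd'.inj (isPt_gen .l)
  · rintro rfl
    refine ⟨gen_l_mem, Cyc.mem_centralizer_zpowers.2 ?_⟩
    have h1 := word_eq_of hl
    rwa [word_append, word_append, word_cons, word_nil, mul_one] at h1

/-- a subgroup with an odd element has half of its elements in the commutator subgroup -/
theorem half {H : Subgroup Fi24} {d : Fi24} (hd : d ∈ H) (hd' : d ∈ L) :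
    Nat.card ↥(commutator Fi24 ⊓ H) * 2 = Nat.card H := by
  have : Finite Fi24 := finite_Fi24
  have h1 : (commutator Fi24).relIndex H ∣ 2 := by
    rw [← Cfsg.Agent.R08.FiTwentyFour.index_commutator]
    exact Subgroup.relIndex_dvd_index_of_normal _ _
  have h2 : (commutator Fi24).relIndex H ≠ 1 := by
    intro h
    exact Cfsg.Agent.R08.FiTwentyFour.odd hd' (Subgroup.relIndex_eq_one.1 h hd)
  have h3 : (commutator Fi24).relIndex H = 2 := ((Nat.dvd_prime Nat.prime_two).1 h1).resolve_left h2
  have h4 := Subgroup.card_mul_index ((commutator Fi24).subgroupOf H)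
  rw [show ((commutator Fi24).subgroupOf H).index = 2 from h3] at h4
  rw [← h4, ← Subgroup.inf_subgroupOf_right]
  congr 1
  exact (Nat.card_congr (Subgroup.subgroupOfEquivOfLe inf_le_right).toEquiv).symm

/-- an element of odd order is even -/
theorem mem_commutator {x : Fi24} (hx : Odd (orderOf x)) : x ∈ commutator Fi24 := by
  obtain ⟨k, hk⟩ := hx
  have h1 : x = (x ^ (k + 1)) ^ 2 := by
    rw [← pow_mul, show (k + 1) * 2 = (2 * k + 1) + 1 by ring, pow_succ, ← hk, pow_orderOf_eq_one, one_mul]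
  have h2 : (x ^ (k + 1)) ^ (commutator Fi24).index ∈ commutator Fi24 := Subgroup.pow_index_mem _ _
  rw [Cfsg.Agent.R08.FiTwentyFour.index_commutator, ← h1] at h2
  exact h2

theorem map_comm {G G' : Type*} [Group G] [Group G'] (e : G ≃* G') :
    (commutator G).map e.toMonoidHom = commutator G' := by
  unfold commutator
  rw [Subgroup.map_commutator]
  have h : (⊤ : Subgroup G).map e.toMonoidHom = ⊤ := Subgroup.map_top_of_surjective _ e.surjective
  rw [h]

/-- **One transposition commuting with `x`.** -/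
theorem one {G : Type*} [Group G] {D : Set G} (f : Fi24 ≃* G) (hf : f '' L = D) {x : Fi24} {p n : ℕ}
    (hp : Odd p) (hx : orderOf x = p)
    (hi : L ∩ (Subgroup.centralizer (Subgroup.zpowers x : Set Fi24) : Set Fi24) = {gen .l})
    (hN : Nat.card (Subgroup.normalizer (Subgroup.zpowers x : Set Fi24)) = n * 2)
    (hC : Nat.card (Subgroup.centralizer (Subgroup.zpowers x : Set Fi24)) = p * 2) {B : Subgroup G}
    (hB : (Subgroup.zpowers x).map f.toMonoidHom = B) :
    (D ∩ (Subgroup.centralizer ((B : Subgroup G) : Set G) : Set G)).ncard = 1 ∧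
      Nat.card ↥(commutator G ⊓ Subgroup.normalizer ((B : Subgroup G) : Set G)) = n ∧ B ≤ commutator G ∧
      commutator G ⊓ Subgroup.centralizer ((B : Subgroup G) : Set G) = B := by
  have : Finite Fi24 := finite_Fi24
  subst hf hB
  have hl : gen .l ∈ Subgroup.centralizer (Subgroup.zpowers x : Set Fi24) := by
    have h : gen .l ∈ L ∩ (Subgroup.centralizer (Subgroup.zpowers x : Set Fi24) : Set Fi24) := by
      rw [hi]; rfl
    exact h.2
  have hl' : gen .l ∈ Subgroup.normalizer (Subgroup.zpowers x : Set Fi24) := by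
    apply mem_normalizer (k := 1)
    rw [pow_one, mul_inv_eq_iff_eq_mul]
    exact Cyc.mem_centralizer_zpowers.1 hl
  have hle : Subgroup.zpowers x ≤ commutator Fi24 := by
    rw [Subgroup.zpowers_le]
    exact mem_commutator (hx ▸ hp)
  refine ⟨?_, ?_, ?_, ?_⟩
  · rw [← H841.Transport.image_inter, Set.ncard_image_of_injective _ f.injective, hi, Set.ncard_singleton]
  · rw [← map_comm f, ← H841.Transport.map_normalizer, ← Subgroup.map_inf _ _ _ f.injective,
      H841.Transport.card_map]
    have h := half hl' gen_l_mem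
    rw [hN] at h
    omega
  · rw [← map_comm f]
    exact Subgroup.map_mono hle
  · rw [← map_comm f, H841.Transport.coe_map, ← H841.Transport.map_centralizer,
      ← Subgroup.map_inf _ _ _ f.injective]
    congr 1
    refine (Subgroup.eq_of_le_of_card_ge (le_inf hle (Subgroup.le_centralizer _)) ?_).symm
    have h := half hl gen_l_mem
    rw [hC] at h
    rw [Nat.card_zpowers, hx]
    omega

end Cfsg.Agent.H843.Fi24N
end
end
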